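import Groth.Prelude.Def_SekSuwa2
import Mathlib.RingTheory.AdjoinRoot

/-!
# The coordinate ring of `G_{λ,N}` and morphisms into affine schemes
-/

universe u

set_option backward.isDefEq.respectTransparency.types false

open CategoryTheory AlgebraicGeometry Polynomial

namespace Groth.Agent.SekSuwa19

variable {R : Type u} [CommRing R] {lam : R} {N : ℕ} (h : SekSuwa.DivCond lam N)

theorem coeff_psiPoly (k : ℕ) : lam ^ N * (SekSuwa.psiPoly lam N h).coeff k =
    (if k = 0 then 0 else lam ^ k * (N.choose k : R)) := by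
  have e := congrArg (fun q => Polynomial.coeff q k) (SekSuwa.psiPoly_spec h)
  simp only [coeff_C_mul, coeff_sub, coeff_one] at e
  rw [e, add_comm (1 : R[X]), ← Polynomial.C_1]
  rcases eq_or_ne k 0 with rfl | hk
  · simp [coeff_zero_eq_eval_zero]
  · have h2 : ((C lam * X + C (1 : R)) ^ N) = ((X + C (1 : R)) ^ N).comp (C lam * X) := by simp
    rw [h2, comp_C_mul_X_coeff, coeff_X_add_C_pow, if_neg hk, if_neg hk]
    simp [mul_comm]

theorem coeff_top (hN : 0 < N) : (SekSuwa.psiPoly lam N h).coeff N = 1 :=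
  SekSuwa.cancel_nzd h.pow_nzd (by rw [coeff_psiPoly, if_neg hN.ne', Nat.choose_self, Nat.cast_one, mul_one])

theorem natDegree_le : (SekSuwa.psiPoly lam N h).natDegree ≤ N := by
  refine natDegree_le_iff_coeff_eq_zero.2 fun k hk => SekSuwa.cancel_nzd h.pow_nzd ?_
  rw [coeff_psiPoly, if_neg (by omega), Nat.choose_eq_zero_of_lt hk, Nat.cast_zero, mul_zero, mul_zero]

theorem monic (hN : 0 < N) : (SekSuwa.psiPoly lam N h).Monic :=
  monic_of_natDegree_le_of_coeff_eq_one N (natDegree_le h) (coeff_top h hN)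

theorem natDegree_eq [Nontrivial R] (hN : 0 < N) : (SekSuwa.psiPoly lam N h).natDegree = N :=
  natDegree_eq_of_le_of_coeff_ne_zero (natDegree_le h) (by rw [coeff_top h hN]; exact one_ne_zero)

theorem inv_eq (hN : 0 < N) :
    (SekSuwa.AK.inv : SekSuwa.AK R lam N h) = (1 + lam • SekSuwa.AK.t) ^ (N - 1) := by
  have e1 : (1 + lam • (SekSuwa.AK.t : SekSuwa.AK R lam N h)) * SekSuwa.AK.inv = 1 := by
    have := congrArg (SekSuwa.AK.mkHom R lam N h) (SekSuwa.A.u_mul_inv (R := R) (lam := lam))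
    rw [map_mul, map_one, SekSuwa.AK.mkHom_u] at this
    exact this
  refine (left_inv_eq_right_inv ?_ e1).symm
  rw [← pow_succ, Nat.sub_add_cancel hN, SekSuwa.AK.u_pow]

/-- `R[T]/(P)` is the coordinate ring of `G_{λ,N}`. -/
noncomputable def equiv (hN : 0 < N) : AdjoinRoot (SekSuwa.psiPoly lam N h) ≃ₐ[R] SekSuwa.AK R lam N h := by
  let f : AdjoinRoot (SekSuwa.psiPoly lam N h) →ₐ[R] SekSuwa.AK R lam N h :=
    AdjoinRoot.liftAlgHom _ (Algebra.ofId R _) SekSuwa.AK.t SekSuwa.AK.aeval_t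
  let r := AdjoinRoot.root (SekSuwa.psiPoly lam N h)
  have hr : Polynomial.aeval r (SekSuwa.psiPoly lam N h) = 0 := by
    rw [AdjoinRoot.aeval_eq, AdjoinRoot.mk_self]
  have hrel : (1 + lam • r) * (1 + lam • r) ^ (N - 1) = 1 := by
    rw [← pow_succ', Nat.sub_add_cancel hN, Algebra.smul_def]
    exact (sub_eq_zero.1 ((SekSuwa.aeval_psiPoly h r).symm.trans (by rw [hr, mul_zero])))
  let g₀ := SekSuwa.A.lift R lam r ((1 + lam • r) ^ (N - 1)) hrel
  let g : SekSuwa.AK R lam N h →ₐ[R] AdjoinRoot (SekSuwa.psiPoly lam N h) :=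
    Ideal.Quotient.liftₐ (SekSuwa.kerIdeal lam N h) g₀ (by
      intro z hz
      obtain ⟨a, rfl⟩ := Ideal.mem_span_singleton'.mp hz
      rw [map_mul, SekSuwa.kerGen, ← Polynomial.aeval_algHom_apply, SekSuwa.A.lift_t, hr, mul_zero])
  have gt : g SekSuwa.AK.t = r := SekSuwa.A.lift_t _ _ hrel
  have gi : g SekSuwa.AK.inv = (1 + lam • r) ^ (N - 1) := SekSuwa.A.lift_inv _ _ hrel
  have fr : f r = SekSuwa.AK.t := AdjoinRoot.liftAlgHom_root _ _ _ SekSuwa.AK.aeval_t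
  refine AlgEquiv.ofAlgHom f g (SekSuwa.AK.algHom_ext ?_ ?_) (AdjoinRoot.algHom_ext ?_)
  · rw [AlgHom.comp_apply, gt, fr, AlgHom.id_apply]
  · rw [AlgHom.comp_apply, gi, map_pow, map_add, map_one, map_smul, fr, AlgHom.id_apply, inv_eq h hN]
  · rw [AlgHom.comp_apply, fr, gt]; rfl

theorem exists_toSpecΓ {T : Scheme.{u}} {B : CommRingCat.{u}} (f : T ⟶ Spec B) :
    ∃ φ : B ⟶ Γ(T, ⊤), f = T.toSpecΓ ≫ Spec.map φ := by
  refine ⟨(Scheme.ΓSpecIso B).inv ≫ f.appTop, ?_⟩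
  rw [Spec.map_comp, ← Scheme.isoSpec_Spec_inv, ← Category.assoc, ← Scheme.toSpecΓ_naturality, Category.assoc]
  simp [Scheme.isoSpec]

theorem toSpecΓ_inj {T : Scheme.{u}} {B : CommRingCat.{u}} {φ ψ : B ⟶ Γ(T, ⊤)}
    (e : T.toSpecΓ ≫ Spec.map φ = T.toSpecΓ ≫ Spec.map ψ) : φ = ψ := by
  have := congrArg Scheme.Hom.appTop e
  rw [Scheme.Hom.comp_appTop, Scheme.Hom.comp_appTop, ← cancel_epi (Scheme.ΓSpecIso B).inv,
    Scheme.toSpecΓ_appTop] at this
  simpa [← Scheme.ΓSpecIso_inv_naturality_assoc] using this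

end Groth.Agent.SekSuwa19
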